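import Groth.Prelude.Def_FlatCA
import Mathlib.Algebra.MvPolynomial.Eval
import Mathlib.Order.Directed

/-!
# Polynomials over a directed colimit
-/

set_option autoImplicit false
set_option linter.style.haveILetI false

universe u

namespace Groth.Agent.FlatMor.EssStage

variable {ι : Type u} [Preorder ι] {G : ι → Type u} [∀ i, CommRing (G i)]
  {g : ∀ i j, i ≤ j → G i →+* G j} {A : Type u} [CommRing A] [∀ i, Algebra (G i) A]
  (hcolim : FlatCA.IsDirectedColimitRing G g A) {σ : Type u} {n : ℕ}

include hcolim in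
/-- Polynomials over a colimit come from a stage. -/
theorem poly_surj (p : MvPolynomial (Fin n) A) :
    ∃ i, ∃ x : MvPolynomial (Fin n) (G i), MvPolynomial.map (algebraMap (G i) A) x = p := by
  obtain ⟨hdir, hne, hid, hcomp, halg, hsurj, hker⟩ := hcolim
  induction p using MvPolynomial.induction_on with
  | C a =>
    obtain ⟨i, x, rfl⟩ := hsurj a
    exact ⟨i, MvPolynomial.C x, MvPolynomial.map_C _ _⟩
  | add p q hp hq =>
    obtain ⟨i, x, rfl⟩ := hp
    obtain ⟨j, y, rfl⟩ := hq
    obtain ⟨k, hik, hjk⟩ := hdir.directed i j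
    refine ⟨k, MvPolynomial.map (g i k hik) x + MvPolynomial.map (g j k hjk) y, ?_⟩
    rw [map_add, MvPolynomial.map_map, MvPolynomial.map_map, halg, halg]
  | mul_X p m hp =>
    obtain ⟨i, x, rfl⟩ := hp
    exact ⟨i, x * MvPolynomial.X m, by rw [map_mul, MvPolynomial.map_X]⟩

include hcolim in
/-- Equal polynomials over a colimit are equal at a stage. -/
theorem poly_eq {i j : ι} (x : MvPolynomial (Fin n) (G i)) (y : MvPolynomial (Fin n) (G j))
    (h : MvPolynomial.map (algebraMap (G i) A) x = MvPolynomial.map (algebraMap (G j) A) y) :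
    ∃ k, ∃ (hik : i ≤ k) (hjk : j ≤ k),
      MvPolynomial.map (g i k hik) x = MvPolynomial.map (g j k hjk) y := by
  classical
  obtain ⟨hdir, hne, hid, hcomp, halg, hsurj, hker⟩ := hcolim
  haveI : IsDirectedOrder ι := ⟨hdir.directed⟩
  haveI := hne
  obtain ⟨l, hil, hjl⟩ := hdir.directed i j
  set z := MvPolynomial.map (g i l hil) x - MvPolynomial.map (g j l hjl) y with hz
  have h0 : MvPolynomial.map (algebraMap (G l) A) z = 0 := by
    rw [hz, map_sub, MvPolynomial.map_map, MvPolynomial.map_map, halg, halg, h, sub_self]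
  have hc : ∀ m, ∃ k, ∃ hlk : l ≤ k, g l k hlk (MvPolynomial.coeff m z) = 0 := fun m =>
    hker l _ (by rw [← MvPolynomial.coeff_map, h0, MvPolynomial.coeff_zero])
  choose k hk hk0 using hc
  obtain ⟨K, hK⟩ := Finset.exists_le (z.support.image k)
  obtain ⟨K', hlK', hKK'⟩ := hdir.directed l K
  refine ⟨K', hil.trans hlK', hjl.trans hlK', ?_⟩
  rw [← sub_eq_zero, ← hcomp i l K' hil hlK', ← hcomp j l K' hjl hlK', ← MvPolynomial.map_map,
    ← MvPolynomial.map_map, ← map_sub, ← hz]
  ext m
  rw [MvPolynomial.coeff_map, MvPolynomial.coeff_zero]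
  by_cases hm : m ∈ z.support
  · rw [← hcomp l (k m) K' (hk m) ((hK _ (Finset.mem_image_of_mem _ hm)).trans hKK'),
      RingHom.comp_apply, hk0, map_zero]
  · rw [MvPolynomial.notMem_support_iff.1 hm, map_zero]

end Groth.Agent.FlatMor.EssStage
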