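import Groth.Agent.FlatOpen.Descend

/-!
# Descent of flatness on a closed set minus a union of basic closed sets
-/

set_option autoImplicit false
set_option linter.style.haveILetI false

universe u

open TensorProduct Function

namespace Groth.Agent.FlatMor.EssStage

open Groth.Agent.FlatOpen

/-- Flatness on the primes containing `J` and avoiding `T` descends to a finitely generated
subalgebra. -/
theorem exists_model_flatOn_disjoint {n r : ℕ} {R₀ : Type u} [CommRing R₀] [IsNoetherianRing R₀]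
    (Z₀ : Submodule (MvPolynomial (Fin n) R₀) (Vec n r R₀)) (R : Type u) [CommRing R] [Algebra R₀ R]
    (J : Ideal (MvPolynomial (Fin n) R)) (T : Submonoid (MvPolynomial (Fin n) R))
    (h : ∀ (Q : Ideal (MvPolynomial (Fin n) R)) [Q.IsPrime], J ≤ Q →
      Disjoint (Q : Set (MvPolynomial (Fin n) R)) T → FlatCA.FlatAt R Q (Quot R Z₀)) :
    ∃ R₁ : Subalgebra R₀ R, R₁.FG ∧ ∃ b t : MvPolynomial (Fin n) R₁,
      MvPolynomial.map (algebraMap R₁ R) b ∈ J ∧ MvPolynomial.map (algebraMap R₁ R) t ∈ T ∧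
      ∀ (Q : Ideal (MvPolynomial (Fin n) R₁)) [Q.IsPrime],
        b ∈ Q → t ∉ Q → FlatCA.FlatAt R₁ Q (Quot R₁ Z₀) := by
  classical
  let P := MvPolynomial (Fin n) R
  let θ := fun B : Subalgebra R₀ R => MvPolynomial.map (σ := Fin n) (algebraMap B R)
  -- `w` vanishes at all non-flat primes of some model
  let Pr : P → Prop := fun w => ∃ B : Subalgebra R₀ R, B.FG ∧ ∃ w₀, θ B w₀ = w ∧
    ∀ (Q : Ideal (MvPolynomial (Fin n) B)) [Q.IsPrime],
      ¬ FlatCA.FlatAt B Q (Quot B Z₀) → w₀ ∈ Q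
  have up : ∀ (B B' : Subalgebra R₀ R) (hle : B ≤ B') (w₀ : MvPolynomial (Fin n) B),
      (∀ (Q : Ideal (MvPolynomial (Fin n) B)) [Q.IsPrime],
        ¬ FlatCA.FlatAt B Q (Quot B Z₀) → w₀ ∈ Q) →
      ∃ w₁, θ B' w₁ = θ B w₀ ∧ ∀ (Q : Ideal (MvPolynomial (Fin n) B')) [Q.IsPrime],
        ¬ FlatCA.FlatAt B' Q (Quot B' Z₀) → w₁ ∈ Q := by
    intro B B' hle w₀ hw
    letI : Algebra B B' := (Subalgebra.inclusion hle).toRingHom.toAlgebra
    haveI : IsScalarTower R₀ B B' := IsScalarTower.of_algebraMap_eq fun _ => rfl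
    refine ⟨MvPolynomial.map (algebraMap B B') w₀, ?_, fun Q _ hQ => ?_⟩
    · simp only [θ, MvPolynomial.map_map]
      rfl
    · exact hw (Q.comap (MvPolynomial.map (algebraMap B B')))
        fun hf => hQ (flatAt_quot_of_tower Z₀ B' B Q hf)
  have lift : ∀ (B : Subalgebra R₀ R) (w : P), ∃ B' : Subalgebra R₀ R, B ≤ B' ∧
      (B.FG → B'.FG) ∧ ∃ w', θ B' w' = w := fun B w =>
    ⟨B ⊔ Algebra.adjoin R₀ (w.coeffs : Set R), le_sup_left, fun hB => hB.sup ⟨_, rfl⟩,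
      MvPolynomial.mem_range_map_iff_coeffs_subset.2 fun x hx =>
        ⟨⟨x, (le_sup_right : _ ≤ B ⊔ Algebra.adjoin R₀ (w.coeffs : Set R))
          (Algebra.subset_adjoin hx)⟩, rfl⟩⟩
  let W : Ideal P :=
    { carrier := {w | Pr w}
      zero_mem' := ⟨⊥, Subalgebra.fg_bot, 0, map_zero _, fun Q _ _ => Q.zero_mem⟩
      add_mem' := by
        rintro a b ⟨B, hB, a₀, rfl, ha⟩ ⟨C, hC, b₀, rfl, hb⟩
        obtain ⟨a₁, ha₁, ha'⟩ := up B (B ⊔ C) le_sup_left a₀ ha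
        obtain ⟨b₁, hb₁, hb'⟩ := up C (B ⊔ C) le_sup_right b₀ hb
        exact ⟨B ⊔ C, hB.sup hC, a₁ + b₁, by rw [map_add, ha₁, hb₁],
          fun Q _ hQ => Q.add_mem (ha' Q hQ) (hb' Q hQ)⟩
      smul_mem' := by
        rintro c a ⟨B, hB, a₀, rfl, ha⟩
        obtain ⟨B', hle, hfg, c', rfl⟩ := lift B c
        obtain ⟨a₁, ha₁, ha'⟩ := up B B' hle a₀ ha
        exact ⟨B', hfg hB, c' * a₁, by rw [map_mul, ha₁]; rfl,
          fun Q _ hQ => Q.mul_mem_left _ (ha' Q hQ)⟩ }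
  have hmeet : ¬ Disjoint ((W ⊔ J : Ideal P) : Set P) T := by
    intro hdis
    obtain ⟨Q, hQ, hle, hQT⟩ := Ideal.exists_le_prime_disjoint _ T hdis
    haveI := hQ
    obtain ⟨B, hB, hflat⟩ := exists_model_flat Z₀ R Q (h Q (le_sup_right.trans hle) hQT)
    haveI : IsNoetherianRing B := isNoetherianRing_of_fg hB
    obtain ⟨K, hK⟩ := (PrimeSpectrum.isClosed_iff_zeroLocus_ideal _).1
      (isOpen_flatSet_noetherian Z₀ B).isClosed_compl
    have hnot : ¬ K ≤ Q.comap (θ B) := fun hKQ => by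
      have : (⟨Q.comap (θ B), inferInstance⟩ : PrimeSpectrum (MvPolynomial (Fin n) B)) ∈
          (flatSet Z₀ B)ᶜ := by
        rw [hK]; exact hKQ
      exact this hflat
    obtain ⟨w₀, hw₀K, hw₀Q⟩ := SetLike.not_le_iff_exists.1 hnot
    refine hw₀Q (hle (le_sup_left (a := W) ?_))
    refine ⟨B, hB, w₀, rfl, fun Q' _ hQ' => ?_⟩
    have : (⟨Q', inferInstance⟩ : PrimeSpectrum (MvPolynomial (Fin n) B)) ∈ (flatSet Z₀ B)ᶜ := hQ'
    rw [hK] at this
    exact this hw₀K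
  obtain ⟨x, hx, hxT⟩ := Set.not_disjoint_iff.1 hmeet
  obtain ⟨a, ⟨B, hB, a₀, rfl, ha⟩, b, hb, rfl⟩ := Submodule.mem_sup.1 hx
  obtain ⟨B', hle, hfg, b', rfl⟩ := lift B b
  obtain ⟨a₁, ha₁, ha'⟩ := up B B' hle a₀ ha
  refine ⟨B', hfg hB, b', a₁ + b', hb, ?_, fun Q _ hbQ htQ => ?_⟩
  · show θ B' (a₁ + b') ∈ T
    rw [map_add, ha₁]
    exact hxT
  · by_contra hn
    exact htQ (Q.add_mem (ha' Q hn) hbQ)

end Groth.Agent.FlatMor.EssStage
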