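import Groth.Prelude.Def_FlatCA
import Groth.Agent.FlatOpen.Descend

/-!
# Presentations of finitely presented modules over algebras essentially of finite presentation
-/

set_option autoImplicit false
set_option linter.style.haveILetI false

universe u

open TensorProduct Function

namespace Groth.Agent.FlatMor.EssStage

open Groth.Agent.FlatOpen

/-- A finitely presented module over an algebra essentially of finite presentation is, up to a
localisation, a finitely presented module over a polynomial ring. -/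
theorem exists_ess_presentation (R S M : Type u) [CommRing R] [CommRing S] [Algebra R S]
    (hS : FlatCA.EssFinitePresentation R S)
    [AddCommGroup M] [Module S M] [Module R M] [IsScalarTower R S M] [Module.FinitePresentation S M] :
    ∃ (n r : ℕ) (π : MvPolynomial (Fin n) R →ₐ[R] S) (T : Submonoid (MvPolynomial (Fin n) R))
      (Z : Submodule (MvPolynomial (Fin n) R) (Vec n r R)) (h : (Vec n r R ⧸ Z) →ₗ[R] M),
      Z.FG ∧ (∀ t ∈ T, IsUnit (π t)) ∧ (∀ s : S, ∃ t ∈ T, ∃ p, π t * s = π p) ∧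
      (∀ a x, h (a • x) = π a • h x) ∧ (∀ m : M, ∃ t ∈ T, ∃ x, h x = π t • m) ∧
      ∀ x, h x = 0 → ∃ t ∈ T, t • x = 0 := by
  classical
  obtain ⟨S₀, _, _, _, _, T₀, hfp, hloc⟩ := hS
  obtain ⟨n, π₀, hπ₀, hker⟩ := hfp.out
  obtain ⟨r, L, e, G, hG⟩ := Module.FinitePresentation.exists_fin S M
  let P := MvPolynomial (Fin n) R
  let π : P →ₐ[R] S := (IsScalarTower.toAlgHom R S₀ S).comp π₀
  let T : Submonoid P := T₀.comap π₀
  have hT : ∀ t ∈ T, IsUnit (π t) := fun t ht => IsLocalization.map_units S (⟨π₀ t, ht⟩ : T₀)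
  have hfrac : ∀ s : S, ∃ t ∈ T, ∃ p, π t * s = π p := fun s => by
    obtain ⟨⟨x, t⟩, hxt⟩ := IsLocalization.surj T₀ s
    obtain ⟨p, rfl⟩ := hπ₀ x
    obtain ⟨t', ht'⟩ := hπ₀ t
    refine ⟨t', show π₀ t' ∈ T₀ from ht' ▸ t.2, p, ?_⟩
    show algebraMap S₀ S (π₀ t') * s = _
    rw [ht', mul_comm]; exact hxt
  have hzero : ∀ p, π p = 0 → ∃ t ∈ T, π₀ (t * p) = 0 := fun p hp => by
    obtain ⟨t, ht⟩ := (IsLocalization.map_eq_zero_iff T₀ S (π₀ p)).1 hp
    obtain ⟨t', ht'⟩ := hπ₀ t
    exact ⟨t', show π₀ t' ∈ T₀ from ht' ▸ t.2, by rw [map_mul, ht', ht]⟩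
  let α : Vec n r R →ₗ[R] (Fin r → S) :=
    LinearMap.pi fun i => π.toLinearMap ∘ₗ LinearMap.proj i
  have hα : ∀ (a : P) v, α (a • v) = π a • α v := fun a v => by
    funext i; exact map_mul π a (v i)
  have hclear : ∀ x : Fin r → S, ∃ t ∈ T, ∃ v, α v = π t • x := by
    intro x
    choose t ht p hp using fun i => hfrac (x i)
    refine ⟨∏ i, t i, Submonoid.prod_mem _ fun i _ => ht i,
      fun i => (∏ j ∈ Finset.univ.erase i, t j) * p i, funext fun i => ?_⟩
    show π ((∏ j ∈ Finset.univ.erase i, t j) * p i) = π (∏ j, t j) * x i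
    rw [← Finset.mul_prod_erase _ _ (Finset.mem_univ i), map_mul, map_mul, ← hp i]
    ring
  choose d hd v hv using hclear
  let K : Submodule P (Vec n r R) := RingHom.ker π₀.toRingHom • ⊤
  let Z : Submodule P (Vec n r R) := K ⊔ Submodule.span P (G.image v : Finset (Vec n r R))
  have hZfg : Z.FG := (Submodule.FG.smul hker Module.Finite.fg_top).sup ⟨_, rfl⟩
  have hπker : ∀ k, π₀ k = 0 → π k = 0 := fun k hk => by
    show algebraMap S₀ S (π₀ k) = 0
    rw [hk, map_zero]
  have hZL : ∀ z ∈ Z, α z ∈ L := by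
    intro z hz
    obtain ⟨k, hk, w, hw, rfl⟩ := Submodule.mem_sup.1 hz
    rw [map_add]
    refine L.add_mem ?_ ?_
    · rw [show α k = 0 from ?_]
      · exact L.zero_mem
      refine Submodule.smul_induction_on hk (fun c hc y _ => ?_) (fun y z hy hz => by
        rw [map_add, hy, hz, add_zero])
      rw [hα, hπker c hc, zero_smul]
    · clear hz
      induction hw using Submodule.span_induction with
      | mem w hw =>
        obtain ⟨l, hl, rfl⟩ := Finset.mem_image.1 hw
        rw [hv]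
        exact L.smul_mem _ (hG ▸ Submodule.subset_span hl)
      | zero => rw [map_zero]; exact L.zero_mem
      | add a b _ _ ha hb => rw [map_add]; exact L.add_mem ha hb
      | smul a b _ hb => rw [hα]; exact L.smul_mem _ hb
  let F : Vec n r R →ₗ[R] M :=
    (e.symm.toLinearMap ∘ₗ L.mkQ).restrictScalars R ∘ₗ α
  have hF : ∀ (a : P) w, F (a • w) = π a • F w := fun a w => by
    show e.symm (L.mkQ (α (a • w))) = π a • e.symm (L.mkQ (α w))
    rw [hα, map_smul, map_smul]
  let h : (Vec n r R ⧸ Z) →ₗ[R] M :=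
    (Z.restrictScalars R).liftQ F (fun z hz => by
      show e.symm (L.mkQ (α z)) = 0
      rw [Submodule.mkQ_apply, (Submodule.Quotient.mk_eq_zero L).2 (hZL z hz), map_zero]) ∘ₗ
    (Submodule.Quotient.restrictScalarsEquiv R Z).symm.toLinearMap
  have hh : ∀ w, h (Submodule.Quotient.mk w) = e.symm (Submodule.Quotient.mk (α w)) := fun w => rfl
  refine ⟨n, r, π, T, Z, h, hZfg, hT, hfrac, fun a x => ?_, fun m => ?_, fun x hx => ?_⟩
  · obtain ⟨w, rfl⟩ := Submodule.Quotient.mk_surjective Z x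
    rw [← Submodule.Quotient.mk_smul]
    exact hF a w
  · obtain ⟨w, hw⟩ := Submodule.Quotient.mk_surjective L (e m)
    refine ⟨d w, hd w, Submodule.Quotient.mk (v w), ?_⟩
    rw [hh, hv, Submodule.Quotient.mk_smul, map_smul, hw, LinearEquiv.symm_apply_apply]
  · obtain ⟨w, rfl⟩ := Submodule.Quotient.mk_surjective Z x
    rw [hh, LinearEquiv.map_eq_zero_iff, Submodule.Quotient.mk_eq_zero] at hx
    suffices ∀ l ∈ L, ∃ t ∈ T, ∃ z ∈ Z, α z = π t • l by
      obtain ⟨t, ht, z, hz, htz⟩ := this _ hx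
      choose t' ht' hk using fun i => hzero ((t • w - z) i) (by
        have h1 := congrFun (sub_eq_zero.2 (((hα t w).trans htz.symm))) i
        rw [← map_sub] at h1
        exact h1)
      refine ⟨(∏ i, t' i) * t, T.mul_mem (Submonoid.prod_mem _ fun i _ => ht' i) ht, ?_⟩
      rw [← Submodule.Quotient.mk_smul, Submodule.Quotient.mk_eq_zero, mul_smul]
      have h2 : (∏ i, t' i) • (t • w - z) ∈ Z := by
        refine (le_sup_left : K ≤ Z) ?_
        rw [pi_eq_sum_univ' ((∏ i, t' i) • (t • w - z))]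
        refine Submodule.sum_mem _ fun i _ => Submodule.smul_mem_smul ?_ Submodule.mem_top
        rw [RingHom.mem_ker, Pi.smul_apply, smul_eq_mul, ← Finset.mul_prod_erase _ _ (Finset.mem_univ i)]
        show π₀ (t' i * (∏ j ∈ Finset.univ.erase i, t' j) * ((t • w - z) i)) = 0
        rw [mul_right_comm, map_mul, hk i, zero_mul]
      have := Z.add_mem h2 (Z.smul_mem (∏ i, t' i) hz)
      rwa [smul_sub, sub_add_cancel] at this
    intro l hl
    rw [← hG] at hl
    induction hl using Submodule.span_induction with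
    | mem l hl => exact ⟨d l, hd l, v l, (le_sup_right : _ ≤ Z) (Submodule.subset_span
        (Finset.mem_image_of_mem v hl)), hv l⟩
    | zero => exact ⟨1, T.one_mem, 0, Z.zero_mem, by rw [map_zero, smul_zero]⟩
    | add a b _ _ ha hb =>
      obtain ⟨t₁, ht₁, z₁, hz₁, e₁⟩ := ha
      obtain ⟨t₂, ht₂, z₂, hz₂, e₂⟩ := hb
      refine ⟨t₁ * t₂, T.mul_mem ht₁ ht₂, t₂ • z₁ + t₁ • z₂,
        Z.add_mem (Z.smul_mem _ hz₁) (Z.smul_mem _ hz₂), ?_⟩
      rw [map_add, hα, hα, e₁, e₂, map_mul, smul_add, smul_smul, smul_smul, mul_comm (π t₂)]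
    | smul c a _ ha =>
      obtain ⟨t, ht, z, hz, e₁⟩ := ha
      obtain ⟨t', ht', p, hp⟩ := hfrac c
      refine ⟨t' * t, T.mul_mem ht' ht, p • z, Z.smul_mem _ hz, ?_⟩
      rw [hα, e₁, ← hp, map_mul, smul_smul, smul_smul]
      congr 1
      ring

/-- A finitely generated submodule of `R[x]^r` is defined over a finitely generated subring. -/
theorem exists_subring_model {R : Type u} [CommRing R] {n r : ℕ}
    (Z : Submodule (MvPolynomial (Fin n) R) (Vec n r R)) (hZ : Z.FG) :
    ∃ (R₀ : Subalgebra ℤ R) (Z₀ : Submodule (MvPolynomial (Fin n) R₀) (Vec n r R₀)),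
      R₀.FG ∧ ext R Z₀ = Z := by
  classical
  obtain ⟨G, hG⟩ := hZ
  let c : Finset R := G.biUnion fun v => Finset.univ.biUnion fun i => (v i).coeffs
  let R₀ := Algebra.adjoin ℤ (c : Set R)
  have hlift : ∀ v ∈ G, ∃ v₀ : Vec n r R₀, mapVec R v₀ = v := by
    intro v hv
    have : ∀ i, ∃ w : MvPolynomial (Fin n) R₀, MvPolynomial.map (algebraMap R₀ R) w = v i :=
      fun i => MvPolynomial.mem_range_map_iff_coeffs_subset.2 fun x hx =>
        ⟨⟨x, Algebra.subset_adjoin (Finset.mem_biUnion.2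
          ⟨v, hv, Finset.mem_biUnion.2 ⟨i, Finset.mem_univ i, hx⟩⟩)⟩, rfl⟩
    choose w hw using this
    exact ⟨w, funext hw⟩
  choose! v₀ hv₀ using hlift
  refine ⟨R₀, Submodule.span _ (v₀ '' (G : Set (Vec n r R))), ⟨c, rfl⟩, ?_⟩
  rw [ext_span, Set.image_image, ← hG]
  exact congrArg _ ((Set.image_congr hv₀).trans (Set.image_id' _))

end Groth.Agent.FlatMor.EssStage
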