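import Groth.Agent.FlatMor.EssStage.Transfer
import Groth.Agent.FlatOpen.Descend

/-!
# A presentation read at a stage
-/

set_option autoImplicit false
set_option linter.style.haveILetI false

universe u

open TensorProduct Function

namespace Groth.Agent.FlatMor.EssStage

open Groth.Agent.FlatOpen

/-- Flatness at the primes of a base change, read in the polynomial ring of a presentation. -/
theorem exists_stage_map {n r : ℕ} {R S M : Type u} [CommRing R] [CommRing S] [Algebra R S]
    [AddCommGroup M] [Module S M] [Module R M] [IsScalarTower R S M]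
    (π : MvPolynomial (Fin n) R →ₐ[R] S) (T : Submonoid (MvPolynomial (Fin n) R))
    (hT : ∀ t ∈ T, IsUnit (π t)) (hS : ∀ s : S, ∃ t ∈ T, ∃ p, π t * s = π p)
    {R₀ : Type u} [CommRing R₀] [Algebra R₀ R]
    (Z₀ : Submodule (MvPolynomial (Fin n) R₀) (Vec n r R₀)) (h : Quot R Z₀ →ₗ[R] M)
    (hsemi : ∀ a x, h (a • x) = π a • h x) (hsurj : ∀ m : M, ∃ t ∈ T, ∃ x, h x = π t • m)
    (htors : ∀ x, h x = 0 → ∃ t ∈ T, t • x = 0)
    (G : Type u) [CommRing G] [Algebra R₀ G] [Algebra R G] [IsScalarTower R₀ R G]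
    {Sg : Type u} [CommRing Sg] [Algebra S Sg] [Algebra G Sg] [Algebra R Sg] [IsScalarTower R S Sg]
    [IsScalarTower R G Sg] [Algebra.IsPushout R S G Sg]
    {Mg : Type u} [AddCommGroup Mg] [Module Sg Mg] [Module G Mg] [IsScalarTower G Sg Mg]
    [Module S Mg] [IsScalarTower S Sg Mg] (f : M →ₗ[S] Mg) (hf : IsBaseChange Sg f) :
    ∃ π' : MvPolynomial (Fin n) G →ₐ[G] Sg,
      (∀ p, π' (MvPolynomial.map (algebraMap R G) p) = algebraMap S Sg (π p)) ∧
      (∀ (q : Ideal Sg) [q.IsPrime],
        FlatCA.FlatAt G (q.comap π') (Quot G Z₀) ↔ FlatCA.FlatAt G q Mg) ∧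
      ∀ (Q : Ideal (MvPolynomial (Fin n) G)) [Q.IsPrime],
        (∀ p, π p = 0 → MvPolynomial.map (algebraMap R G) p ∈ Q) →
        (∀ t ∈ T, MvPolynomial.map (algebraMap R G) t ∉ Q) →
        ∃ q : Ideal Sg, q.IsPrime ∧ q.comap π' = Q := by
  let P := MvPolynomial (Fin n) R
  letI : Algebra P S := π.toRingHom.toAlgebra
  haveI : IsScalarTower R P S := IsScalarTower.of_algebraMap_eq fun a => (π.commutes a).symm
  letI : Module P M := Module.compHom M π.toRingHom
  haveI : IsScalarTower P S M := IsScalarTower.of_algebraMap_smul fun _ _ => rfl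
  let hP : Quot R Z₀ →ₗ[P] M := { toFun := h, map_add' := map_add h, map_smul' := hsemi }
  haveI : IsLocalizedModule T hP := by
    refine ⟨fun t => ?_, fun m => ?_, fun {x₁ x₂} he => ?_⟩
    · rw [Module.End.isUnit_iff]
      have := (Module.End.isUnit_iff _).1 ((hT t t.2).map (algebraMap S (Module.End S M)))
      convert this using 1
      rfl
    · obtain ⟨t, ht, x, hx⟩ := hsurj m
      exact ⟨⟨x, ⟨t, ht⟩⟩, hx.symm⟩
    · obtain ⟨t, ht, htx⟩ := htors (x₁ - x₂) (by rw [map_sub, sub_eq_zero]; exact he)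
      exact ⟨⟨t, ht⟩, sub_eq_zero.1 (by rw [← smul_sub]; exact htx)⟩
  letI : Algebra P (MvPolynomial (Fin n) G) := MvPolynomial.algebraMvPolynomial (σ := Fin n) (R := R) (S := G)
  haveI : IsScalarTower R P (MvPolynomial (Fin n) G) := IsScalarTower.of_algebraMap_eq fun a => by
    show MvPolynomial.C (algebraMap R G a) = MvPolynomial.map (algebraMap R G) (MvPolynomial.C a)
    rw [MvPolynomial.map_C]
  haveI : Algebra.IsPushout R P G (MvPolynomial (Fin n) G) := inferInstance
  letI : Module P (Quot G Z₀) :=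
    Module.compHom _ (algebraMap P (MvPolynomial (Fin n) G))
  haveI : IsScalarTower P (MvPolynomial (Fin n) G) (Quot G Z₀) :=
    IsScalarTower.of_algebraMap_smul fun _ _ => rfl
  obtain ⟨g, hg⟩ := exists_isBaseChange_quot G Z₀ R
  let π' : MvPolynomial (Fin n) G →ₐ[G] Sg :=
    MvPolynomial.aeval fun i => algebraMap S Sg (π (MvPolynomial.X i))
  have hπ' : ∀ p, π' (MvPolynomial.map (algebraMap R G) p) = algebraMap S Sg (π p) := fun p => by
    induction p using MvPolynomial.induction_on with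
    | C a =>
      rw [MvPolynomial.map_C, ← MvPolynomial.algebraMap_eq, ← MvPolynomial.algebraMap_eq, π'.commutes,
        π.commutes, ← IsScalarTower.algebraMap_apply, ← IsScalarTower.algebraMap_apply]
    | add p q hp hq => simp only [map_add, hp, hq]
    | mul_X p i hp => simp only [map_mul, hp, MvPolynomial.map_X, π', MvPolynomial.aeval_X]
  refine ⟨π', hπ', fun q _ => ?_, fun Q _ hk hQ => ?_⟩
  · exact flatAt_baseChange_iff R (P := P) (S := S) T hT hS hP π' hπ' g hg f hf q
  · exact exists_prime_lift R (P := P) (S := S) T hS π' hπ' Q hk hQ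

end Groth.Agent.FlatMor.EssStage
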