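import Groth.Prelude.Def_FlatCA
import Groth.Agent.FlatMor.FlatIdealC.Transfer
import Mathlib.RingTheory.LocalRing.ResidueField.Ideal

/-!
# Flatness at primes along localisations and their base changes
-/

set_option autoImplicit false
set_option linter.style.haveILetI false

universe u

open TensorProduct Function

namespace Groth.Agent.FlatMor.EssStage

section Basic

variable {R P S N M : Type u} [CommRing R] [CommRing P] [CommRing S] [Algebra R P] [Algebra R S]
  [Algebra P S] [IsScalarTower R P S] [AddCommGroup N] [Module P N] [Module R N] [IsScalarTower R P N]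
  [AddCommGroup M] [Module S M] [Module P M] [IsScalarTower P S M] [Module R M] [IsScalarTower R S M]

/-- Flatness at a prime may be computed before a localisation. -/
theorem flatAt_iff_of_localized (T : Submonoid P) (hT : ∀ t ∈ T, IsUnit (algebraMap P S t))
    (hS : ∀ s : S, ∃ t ∈ T, ∃ p, algebraMap P S t * s = algebraMap P S p)
    (h : N →ₗ[P] M) [IsLocalizedModule T h] (q : Ideal S) [q.IsPrime] :
    FlatCA.FlatAt R (q.comap (algebraMap P S)) N ↔ FlatCA.FlatAt R q M := by
  haveI : IsScalarTower R P M := IsScalarTower.of_algebraMap_smul fun a x => by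
    rw [← algebraMap_smul S (algebraMap R P a), ← IsScalarTower.algebraMap_apply, algebraMap_smul]
  let Q := q.comap (algebraMap P S)
  let mk := LocalizedModule.mkLinearMap q.primeCompl M
  let g : N →ₗ[P] LocalizedModule q.primeCompl M := mk.restrictScalars P ∘ₗ h
  have hQ : ∀ t ∈ T, t ∉ Q := fun t ht hm =>
    Ideal.IsPrime.ne_top inferInstance (q.eq_top_of_isUnit_mem hm (hT t ht))
  haveI : IsLocalizedModule Q.primeCompl g := by
    refine ⟨fun t => ?_, fun y => ?_, fun {x₁ x₂} he => ?_⟩
    · have h1 := (Module.End.isUnit_iff _).1 (IsLocalizedModule.map_units mk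
        (⟨algebraMap P S t, t.2⟩ : q.primeCompl))
      rw [Module.End.isUnit_iff]
      convert h1 using 1
      funext m
      simp only [Module.algebraMap_end_apply]
      exact (algebraMap_smul S (t : P) m).symm
    · obtain ⟨⟨m, s⟩, hm⟩ := IsLocalizedModule.surj q.primeCompl mk y
      obtain ⟨⟨x, t⟩, hx⟩ := IsLocalizedModule.surj T h m
      simp only [Submonoid.smul_def] at hm hx
      obtain ⟨t', ht', p, hp⟩ := hS (s : S)
      have hpQ : p ∈ Q.primeCompl := fun hpm => s.2 <| by
        have hu : algebraMap P S t' * (s : S) ∈ q := hp.symm ▸ hpm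
        exact ((inferInstance : q.IsPrime).mem_or_mem hu).resolve_left (hQ t' ht')
      refine ⟨⟨t' • x, ⟨(t : P) * p, Q.primeCompl.mul_mem (hQ _ t.2) hpQ⟩⟩, ?_⟩
      show ((t : P) * p) • y = g (t' • x)
      rw [map_smul, mul_smul, ← algebraMap_smul S p y, ← hp, mul_smul, hm, algebraMap_smul,
        smul_comm]
      congr 1
      exact ((mk.restrictScalars P).map_smul (t : P) m).symm.trans (congrArg mk hx)
    · obtain ⟨s, hs⟩ := IsLocalizedModule.exists_of_eq (S := q.primeCompl) (f := mk) he
      rw [Submonoid.smul_def, Submonoid.smul_def] at hs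
      obtain ⟨t', ht', p, hp⟩ := hS (s : S)
      have hpQ : p ∈ Q.primeCompl := fun hpm => s.2 <| by
        have hu : algebraMap P S t' * (s : S) ∈ q := hp.symm ▸ hpm
        exact ((inferInstance : q.IsPrime).mem_or_mem hu).resolve_left (hQ t' ht')
      have h2 : h (p • x₁) = h (p • x₂) := by
        rw [map_smul, map_smul, ← algebraMap_smul S p (h x₁), ← algebraMap_smul S p (h x₂), ← hp,
          mul_smul, mul_smul, hs]
      obtain ⟨t, ht⟩ := IsLocalizedModule.exists_of_eq (S := T) (f := h) h2
      rw [Submonoid.smul_def, Submonoid.smul_def, smul_smul, smul_smul] at ht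
      exact ⟨⟨(t : P) * p, Q.primeCompl.mul_mem (hQ _ t.2) hpQ⟩, ht⟩
  let I := (IsLocalizedModule.iso Q.primeCompl g).restrictScalars R
  constructor
  · intro hf
    haveI : Module.Flat R (LocalizedModule Q.primeCompl N) := hf
    exact Module.Flat.of_linearEquiv I.symm
  · intro hf
    haveI : Module.Flat R (LocalizedModule q.primeCompl M) := hf
    exact Module.Flat.of_linearEquiv I

end Basic

section BaseChange

open FlatIdealC

variable {R P S R' P' S' : Type u} [CommRing R] [CommRing P] [CommRing S] [CommRing R'] [CommRing P']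
  [CommRing S'] [Algebra R P] [Algebra R S] [Algebra P S] [IsScalarTower R P S] [Algebra R R']
  [Algebra P P'] [Algebra R' P'] [Algebra R P'] [IsScalarTower R P P'] [IsScalarTower R R' P']
  [Algebra.IsPushout R P R' P']
  [Algebra S S'] [Algebra R' S'] [Algebra R S'] [IsScalarTower R S S'] [IsScalarTower R R' S']
  [Algebra.IsPushout R S R' S']
  {N N' M M' : Type u} [AddCommGroup N] [Module P N] [Module R N] [IsScalarTower R P N]
  [AddCommGroup N'] [Module P' N'] [Module R' N'] [IsScalarTower R' P' N'] [Module P N']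
  [IsScalarTower P P' N']
  [AddCommGroup M] [Module S M] [Module P M] [IsScalarTower P S M] [Module R M] [IsScalarTower R S M]
  [AddCommGroup M'] [Module S' M'] [Module R' M'] [IsScalarTower R' S' M'] [Module S M']
  [IsScalarTower S S' M']

variable (R)
include R

omit [AddCommGroup N] [Module P N] [Module R N] [IsScalarTower R P N] [AddCommGroup M] [Module S M]
  [Module P M] [IsScalarTower P S M] [Module R M] [IsScalarTower R S M] in
/-- Base changes keep fractions. -/
theorem exists_frac (T : Submonoid P)
    (hS : ∀ s : S, ∃ t ∈ T, ∃ p, algebraMap P S t * s = algebraMap P S p)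
    (π' : P' →ₐ[R'] S') (hπ' : ∀ p, π' (algebraMap P P' p) = algebraMap S S' (algebraMap P S p))
    (x : S') : ∃ t ∈ T, ∃ p, π' (algebraMap P P' t) * x = π' p := by
  haveI : Algebra.IsPushout R R' S S' := Algebra.IsPushout.symm ‹_›
  refine (Algebra.IsPushout.out (R := R) (S := R') (R' := S) (S' := S')).inductionOn x
    (fun x => ∃ t ∈ T, ∃ p, π' (algebraMap P P' t) * x = π' p) ?_ ?_ ?_ ?_
  · exact ⟨1, T.one_mem, 0, by rw [mul_zero, map_zero]⟩
  · intro s
    obtain ⟨t, ht, p, hp⟩ := hS s
    refine ⟨t, ht, algebraMap P P' p, ?_⟩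
    rw [hπ', hπ']
    exact (map_mul (algebraMap S S') _ _).symm.trans (congrArg (algebraMap S S') hp)
  · rintro a x ⟨t, ht, p, hp⟩
    refine ⟨t, ht, algebraMap R' P' a * p, ?_⟩
    rw [map_mul, π'.commutes, ← hp, Algebra.smul_def]
    ring
  · rintro x y ⟨t₁, ht₁, p₁, h₁⟩ ⟨t₂, ht₂, p₂, h₂⟩
    refine ⟨t₁ * t₂, T.mul_mem ht₁ ht₂, algebraMap P P' t₂ * p₁ + algebraMap P P' t₁ * p₂, ?_⟩
    rw [map_add, map_mul, map_mul, map_mul, map_mul, ← h₁, ← h₂]
    ring

/-- Flatness at a prime of a base change may be computed before a localisation. -/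
theorem flatAt_baseChange_iff (T : Submonoid P) (hT : ∀ t ∈ T, IsUnit (algebraMap P S t))
    (hS : ∀ s : S, ∃ t ∈ T, ∃ p, algebraMap P S t * s = algebraMap P S p)
    (h : N →ₗ[P] M) [IsLocalizedModule T h]
    (π' : P' →ₐ[R'] S') (hπ' : ∀ p, π' (algebraMap P P' p) = algebraMap S S' (algebraMap P S p))
    (g : N →ₗ[P] N') (hg : IsBaseChange P' g) (f : M →ₗ[S] M') (hf : IsBaseChange S' f)
    (q' : Ideal S') [q'.IsPrime] :
    FlatCA.FlatAt R' (q'.comap π') N' ↔ FlatCA.FlatAt R' q' M' := by
  letI : Algebra P' S' := π'.toRingHom.toAlgebra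
  haveI : IsScalarTower R' P' S' := IsScalarTower.of_algebraMap_eq fun a => (π'.commutes a).symm
  letI : Module P' M' := Module.compHom M' π'.toRingHom
  haveI : IsScalarTower P' S' M' := IsScalarTower.of_algebraMap_smul fun _ _ => rfl
  haveI : IsScalarTower R' P' M' := IsScalarTower.of_algebraMap_smul fun a x => by
    rw [← algebraMap_smul S' (algebraMap R' P' a), ← IsScalarTower.algebraMap_apply, algebraMap_smul]
  letI : Module P M' := Module.compHom M' (algebraMap P P')
  haveI : IsScalarTower P P' M' := IsScalarTower.of_algebraMap_smul fun _ _ => rfl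
  haveI : IsScalarTower R P M := IsScalarTower.of_algebraMap_smul fun a x => by
    rw [← algebraMap_smul S (algebraMap R P a), ← IsScalarTower.algebraMap_apply, algebraMap_smul]
  let fP : M →ₗ[P] M' :=
    { toFun := f
      map_add' := map_add f
      map_smul' := fun p m => by
        show f (p • m) = π' (algebraMap P P' p) • f m
        rw [hπ', algebraMap_smul, ← map_smul, algebraMap_smul] }
  let h' : N' →ₗ[P'] M' := hg.lift (fP ∘ₗ h)
  let hR : N ⊗[R] R' →ₗ[P] M ⊗[R] R' := AlgebraTensorModule.rTensor R R' h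
  haveI : IsLocalizedModule T hR := inferInstance
  let eN := tensorEquiv R R' g hg R'
  let eM := tensorEquiv R R' f hf R'
  let rN := TensorProduct.rid R' N'
  let rM := TensorProduct.rid R' M'
  have key : ∀ z, h' (rN (eN z)) = rM (eM (hR z)) := by
    intro z
    induction z using TensorProduct.induction_on with
    | zero => simp
    | tmul n a =>
      simp only [hR, eN, eM, rN, rM, tensorEquiv_tmul, AlgebraTensorModule.rTensor_tmul,
        TensorProduct.rid_tmul]
      rw [← algebraMap_smul P' a (g n), map_smul, hg.lift_eq, algebraMap_smul]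
      rfl
    | add x y hx hy => simp only [map_add, hx, hy]
  have hsemi : ∀ (p : P) z, rN (eN (p • z)) = algebraMap P P' p • rN (eN z) := by
    intro p z
    induction z using TensorProduct.induction_on with
    | zero => simp
    | tmul n a =>
      simp only [eN, rN, TensorProduct.smul_tmul', tensorEquiv_tmul, TensorProduct.rid_tmul]
      rw [map_smul, ← algebraMap_smul P' p (g n), smul_comm]
    | add x y hx hy => simp only [smul_add, map_add, hx, hy]
  have hsemiM : ∀ (p : P) z, rM (eM (p • z)) = π' (algebraMap P P' p) • rM (eM z) := by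
    intro p z
    induction z using TensorProduct.induction_on with
    | zero => simp
    | tmul n a =>
      simp only [eM, rM, TensorProduct.smul_tmul', tensorEquiv_tmul, TensorProduct.rid_tmul]
      rw [hπ', ← algebraMap_smul S p n, map_smul, ← algebraMap_smul S' (algebraMap P S p) (f n),
        smul_comm]
    | add x y hx hy => simp only [smul_add, map_add, hx, hy]
  have hu : ∀ t ∈ T, IsUnit (π' (algebraMap P P' t)) := fun t ht => by
    rw [hπ']; exact (hT t ht).map _
  let T' := T.map (algebraMap P P')
  haveI : IsLocalizedModule T' h' := by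
    refine ⟨?_, fun y => ?_, fun {x₁ x₂} he => ?_⟩
    · rintro ⟨_, t, ht, rfl⟩
      rw [Module.End.isUnit_iff]
      have := (Module.End.isUnit_iff _).1 ((hu t ht).map (algebraMap S' (Module.End S' M')))
      convert this using 1
      rfl
    · obtain ⟨y, rfl⟩ := rM.surjective y
      obtain ⟨y, rfl⟩ := eM.surjective y
      obtain ⟨⟨z, t⟩, hz⟩ := IsLocalizedModule.surj T hR y
      simp only [Submonoid.smul_def] at hz
      refine ⟨⟨rN (eN z), ⟨algebraMap P P' t, t, t.2, rfl⟩⟩, ?_⟩
      show π' (algebraMap P P' t) • rM (eM y) = h' (rN (eN z))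
      rw [key, ← hz, hsemiM]
    · obtain ⟨z, hz⟩ := rN.surjective (x₁ - x₂)
      obtain ⟨z, rfl⟩ := eN.surjective z
      have h0 : hR z = 0 := by
        refine eM.injective (rM.injective ?_)
        rw [← key, hz, map_sub, he, sub_self, map_zero, map_zero]
      obtain ⟨t, ht⟩ := (IsLocalizedModule.eq_zero_iff T hR).1 h0
      refine ⟨⟨algebraMap P P' t, t, t.2, rfl⟩, ?_⟩
      rw [Submonoid.smul_def, Submonoid.smul_def, ← sub_eq_zero, ← smul_sub, ← hz, ← hsemi,
        ← Submonoid.smul_def, ht, map_zero, map_zero]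
  refine flatAt_iff_of_localized (P := P') (S := S') T' ?_ (fun x => ?_) h' q'
  · rintro _ ⟨t, ht, rfl⟩
    exact hu t ht
  · obtain ⟨t, ht, p, hp⟩ := exists_frac R T hS π' hπ' x
    exact ⟨_, ⟨t, ht, rfl⟩, p, hp⟩

omit [AddCommGroup N] [Module P N] [Module R N] [IsScalarTower R P N] [AddCommGroup M] [Module S M]
  [Module P M] [IsScalarTower P S M] [Module R M] [IsScalarTower R S M] in
/-- A prime of the base change avoiding `T` and containing the kernel lifts. -/
theorem exists_prime_lift (T : Submonoid P)
    (hS : ∀ s : S, ∃ t ∈ T, ∃ p, algebraMap P S t * s = algebraMap P S p)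
    (π' : P' →ₐ[R'] S') (hπ' : ∀ p, π' (algebraMap P P' p) = algebraMap S S' (algebraMap P S p))
    (Q : Ideal P') [Q.IsPrime] (hker : ∀ p, algebraMap P S p = 0 → algebraMap P P' p ∈ Q)
    (hQ : ∀ t ∈ T, algebraMap P P' t ∉ Q) :
    ∃ q' : Ideal S', q'.IsPrime ∧ q'.comap π' = Q := by
  classical
  let K := Q.ResidueField
  let φ : P →+* K := (algebraMap P' K).comp (algebraMap P P')
  have hφ0 : ∀ p, φ p = 0 ↔ algebraMap P P' p ∈ Q := fun p => Ideal.algebraMap_residueField_eq_zero
  have hφT : ∀ t ∈ T, φ t ≠ 0 := fun t ht h => hQ t ht ((hφ0 t).1 h)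
  choose dn hdn nm hnm using hS
  let v : S → K := fun s => φ (nm s) / φ (dn s)
  have hv : ∀ s, ∀ t ∈ T, ∀ p, algebraMap P S t * s = algebraMap P S p → φ t * v s = φ p := by
    intro s t ht p hp
    have h1 : φ (p * dn s) = φ (nm s * t) := by
      rw [← sub_eq_zero, ← map_sub, hφ0]
      refine hker _ ?_
      rw [map_sub, map_mul, map_mul, ← hp, ← hnm s]
      ring
    rw [map_mul, map_mul] at h1
    show φ t * (φ (nm s) / φ (dn s)) = φ p
    rw [mul_div_assoc', div_eq_iff (hφT _ (hdn s)), h1, mul_comm]
  have hvP : ∀ p, v (algebraMap P S p) = φ p := fun p => by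
    simpa using hv (algebraMap P S p) 1 T.one_mem p (by rw [map_one, one_mul])
  let ψ : S →+* K :=
    { toFun := v
      map_one' := by simpa using hvP 1
      map_zero' := by simpa using hvP 0
      map_mul' := fun a b => by
        have := hv (a * b) _ (T.mul_mem (hdn a) (hdn b)) (nm a * nm b) (by
          rw [map_mul, map_mul, ← hnm a, ← hnm b]; ring)
        rw [← mul_right_inj' (hφT _ (T.mul_mem (hdn a) (hdn b))), this, map_mul, map_mul,
          ← hv a _ (hdn a) _ (hnm a), ← hv b _ (hdn b) _ (hnm b)]
        ring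
      map_add' := fun a b => by
        have := hv (a + b) _ (T.mul_mem (hdn a) (hdn b)) (dn b * nm a + dn a * nm b) (by
          rw [map_mul, map_add, map_mul, map_mul, ← hnm a, ← hnm b]; ring)
        rw [← mul_right_inj' (hφT _ (T.mul_mem (hdn a) (hdn b))), this, map_mul, map_add, map_mul,
          map_mul, ← hv a _ (hdn a) _ (hnm a), ← hv b _ (hdn b) _ (hnm b)]
        ring }
  letI : Algebra R K := ((algebraMap P' K).comp (algebraMap R P')).toAlgebra
  let ψS : S →ₐ[R] K :=
    { ψ with
      commutes' := fun r => by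
        show v (algebraMap R S r) = algebraMap P' K (algebraMap R P' r)
        rw [IsScalarTower.algebraMap_apply R P S, hvP, IsScalarTower.algebraMap_apply R P P']
        rfl }
  let ψR : R' →ₐ[R] K :=
    { (algebraMap P' K).comp (algebraMap R' P') with
      commutes' := fun r => by
        show algebraMap P' K (algebraMap R' P' (algebraMap R R' r)) = _
        rw [← IsScalarTower.algebraMap_apply R R' P']; rfl }
  let θ := Algebra.pushoutDesc S' ψS ψR (fun x y => mul_comm _ _)
  refine ⟨RingHom.ker θ.toRingHom, RingHom.ker_isPrime _, ?_⟩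
  have hcomp : ∀ x : P', θ (π' x) = algebraMap P' K x := by
    intro x
    haveI : Algebra.IsPushout R R' P P' := Algebra.IsPushout.symm ‹_›
    refine (Algebra.IsPushout.out (R := R) (S := R') (R' := P) (S' := P')).inductionOn x
      (fun x => θ (π' x) = algebraMap P' K x) (by simp) ?_ ?_ ?_
    · intro p
      show θ (π' (algebraMap P P' p)) = algebraMap P' K (algebraMap P P' p)
      rw [hπ', Algebra.pushoutDesc_left]
      exact hvP p
    · intro a x hx
      rw [Algebra.smul_def, map_mul, map_mul, map_mul, π'.commutes, Algebra.pushoutDesc_right, hx]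
      rfl
    · intro x y hx hy
      rw [map_add, map_add, map_add, hx, hy]
  ext x
  rw [Ideal.mem_comap, RingHom.mem_ker]
  show θ (π' x) = 0 ↔ _
  rw [hcomp, Ideal.algebraMap_residueField_eq_zero]

end BaseChange

end Groth.Agent.FlatMor.EssStage
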